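import Groth.Agent.Lib.MTRigid29.ConstS
import Groth.Agent.Lib.TorsorSch25.ExactPts
import Mathlib.Topology.LocallyConstant.Algebra
import Mathlib.CategoryTheory.Monoidal.Cartesian.Grp

/-!
# Constant group schemes of abstract groups
-/

set_option autoImplicit false
set_option backward.isDefEq.respectTransparency false
universe u

open CategoryTheory CategoryTheory.Limits MonoidalCategory CartesianMonoidalCategory MonObj AlgebraicGeometry Opposite

noncomputable section

namespace Groth.Agent.Alb8

open MTRigid29

variable {S : Scheme.{u}} {I : Type u}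

/-- The locally constant index of a point of a constant scheme. -/
def idx {T : Over S} (k : T ⟶ TwC.const S I) : LocallyConstant T.left I where
  toFun z := (mem_piece_self k z).choose
  isLocallyConstant := (IsLocallyConstant.iff_exists_open _).2 fun z =>
    ⟨piece k (mem_piece_self k z).choose, (piece k _).isOpen, (mem_piece_self k z).choose_spec,
      fun _ hy => eq_of_mem_piece k (mem_piece_self k _).choose_spec hy⟩

theorem mem_piece_idx {T : Over S} (k : T ⟶ TwC.const S I) (z : T.left) : z ∈ piece k (idx k z) :=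
  (mem_piece_self k z).choose_spec

theorem idx_eq {T : Over S} (k : T ⟶ TwC.const S I) {z : T.left} {a : I} (h : z ∈ piece k a) : idx k z = a :=
  eq_of_mem_piece k (mem_piece_idx k z) h

theorem idx_injective {T : Over S} : Function.Injective (idx (S := S) (I := I) (T := T)) := fun k k' h =>
  eq_of_piece_le k k' fun a z hz => by
    rw [← idx_eq k hz, h]
    exact mem_piece_idx k' z

theorem idx_surjective {T : Over S} : Function.Surjective (idx (S := S) (I := I) (T := T)) := fun φ => by
  let U : I → T.left.Opens := fun a => ⟨φ ⁻¹' {a}, φ.isLocallyConstant {a}⟩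
  obtain ⟨k, hk⟩ := exists_hom_of_partition (S := S) (T := T) U
    (eq_top_iff.2 fun z _ => TopologicalSpace.Opens.mem_iSup.2 ⟨φ z, rfl⟩)
    (fun a b hab => disjoint_iff.2 (eq_bot_iff.2 fun z ⟨ha, hb⟩ => hab ((Eq.symm ha).trans hb)))
  exact ⟨k, LocallyConstant.ext fun z => idx_eq k (hk (φ z) rfl)⟩

variable [CommGroup I]

variable (S I) in
/-- The functor of locally constant functions. -/
def lcFun : (Over S)ᵒᵖ ⥤ GrpCat.{u} where
  obj T := GrpCat.of (LocallyConstant (unop T).left I)
  map {T T'} g := GrpCat.ofHom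
    { toFun := fun φ => φ.comap ⟨g.unop.left, g.unop.left.continuous⟩
      map_one' := rfl
      map_mul' := fun _ _ => rfl }
  map_id _ := by ext φ : 1; rfl
  map_comp _ _ := by ext φ : 1; rfl

variable (S I) in
/-- The constant scheme represents locally constant functions. -/
def lcRep : (lcFun S I ⋙ forget GrpCat).RepresentableBy (TwC.const S I) where
  homEquiv {T} := Equiv.ofBijective (idx (T := T)) ⟨idx_injective, idx_surjective⟩
  homEquiv_comp {T T'} g k := LocallyConstant.ext fun z => idx_eq (g ≫ k) (by
    rw [piece_comp]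
    exact mem_piece_idx k (g.left z))

variable (S I) in
/-- The constant group scheme. -/
@[reducible] def constGrp : GrpObj (TwC.const S I) := GrpObj.ofRepresentableBy _ (lcFun S I) (lcRep S I)

attribute [local instance] constGrp

theorem idx_mul {T : Over S} (a b : T ⟶ TwC.const S I) : idx (a * b) = idx a * idx b := by
  have e : idx (fst (TwC.const S I) (TwC.const S I) * snd (TwC.const S I) (TwC.const S I)) =
      idx (fst (TwC.const S I) (TwC.const S I)) * idx (snd (TwC.const S I) (TwC.const S I)) := by
    rw [Hom.mul_def, lift_fst_snd, Category.id_comp]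
    exact Equiv.apply_symm_apply (lcRep S I).homEquiv _
  have hc : ∀ {T T' : Over S} (g : T ⟶ T') (k : T' ⟶ TwC.const S I),
      idx (g ≫ k) = (lcFun S I).map g.op (idx k) := fun g k => (lcRep S I).homEquiv_comp g k
  calc idx (a * b) = idx (lift a b ≫ (fst _ _ * snd _ _)) := by rw [MonObj.comp_mul, lift_fst, lift_snd]
    _ = idx (lift a b ≫ fst _ _) * idx (lift a b ≫ snd _ _) := by rw [hc, e, map_mul, ← hc, ← hc]
    _ = idx a * idx b := by rw [lift_fst, lift_snd]

theorem isCommMonObj_const : IsCommMonObj (TwC.const S I) := by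
  refine ⟨?_⟩
  have e : (β_ (TwC.const S I) (TwC.const S I)).hom ≫ μ[TwC.const S I] =
      snd (TwC.const S I) (TwC.const S I) * fst (TwC.const S I) (TwC.const S I) := by
    rw [mul_eq_mul, MonObj.comp_mul, braiding_hom_fst, braiding_hom_snd]
  rw [e, mul_eq_mul]
  exact idx_injective (by rw [idx_mul, idx_mul, mul_comm])

theorem idx_pt {T : Over S} (a : I) : idx (toUnit T ≫ TwC.pt S I a) = LocallyConstant.const T.left a :=
  LocallyConstant.ext fun z => idx_eq _ (piece_toUnit_pt a z)

theorem idx_one {T : Over S} : idx (1 : T ⟶ TwC.const S I) = 1 := by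
  have h := idx_mul (1 : T ⟶ TwC.const S I) 1
  rw [_root_.one_mul] at h
  exact left_eq_mul.1 h

theorem pt_one : TwC.pt S I 1 = 1 := idx_injective (by
  rw [idx_one, ← Category.id_comp (TwC.pt S I 1), show 𝟙 (𝟙_ (Over S)) = toUnit _ from toUnit_unique _ _, idx_pt]
  rfl)

/-- A homomorphism out of the constant group is given by a homomorphism into the sections. -/
theorem isMonHom_of_pt {H : Over S} [GrpObj H] (ψ : TwC.const S I ⟶ H) (χ : I →* (𝟙_ (Over S) ⟶ H))
    (hψ : ∀ a, TwC.pt S I a ≫ ψ = χ a) : IsMonHom ψ := by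
  refine TorsorSch25.isMonHom_of_points ψ fun T x y => ?_
  refine hom_ext_opens (fun ab : I × I => piece x ab.1 ⊓ piece y ab.2) (eq_top_iff.2 fun z _ =>
    TopologicalSpace.Opens.mem_iSup.2 ⟨⟨idx x z, idx y z⟩, mem_piece_idx x z, mem_piece_idx y z⟩) fun ab => ?_
  have hx := openIncl_comp x ab.1 (piece x ab.1 ⊓ piece y ab.2) inf_le_left
  have hy := openIncl_comp y ab.2 (piece x ab.1 ⊓ piece y ab.2) inf_le_right
  have hxy : openIncl (piece x ab.1 ⊓ piece y ab.2) ≫ (x * y) =
      toUnit _ ≫ TwC.pt S I (ab.1 * ab.2) := idx_injective (by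
    rw [MonObj.comp_mul, idx_mul, hx, hy, idx_pt, idx_pt, idx_pt]
    rfl)
  rw [← Category.assoc, hxy, MonObj.comp_mul, ← Category.assoc, hx, ← Category.assoc, hy]
  simp only [Category.assoc, hψ, map_mul, MonObj.comp_mul]

end Groth.Agent.Alb8
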