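import Groth.Agent.Lib.Alb8.Const
import Groth.Agent.Lib.OneMot8.Pts
import Groth.Agent.Lib.GrpGen20.Generated
import Groth.Agent.Lib.GrpGen20.CommBound
import Groth.Agent.Lib.AlgClosedExt25.Geometry
import Groth.Agent.Lib.GrpSmooth19.Basic

/-!
# Subgroups generated by proper schemes, and the Albanese scheme of a proper scheme
-/

set_option autoImplicit false
set_option maxSynthPendingDepth 3
set_option backward.isDefEq.respectTransparency false
set_option maxHeartbeats 1000000

universe u

open CategoryTheory CategoryTheory.Limits MonoidalCategory CartesianMonoidalCategory MonObj AlgebraicGeometry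

noncomputable section

namespace Groth.Agent.Alb8

open GrpGen20 OneMot8

variable {k : Type u} [Field k] [IsAlgClosed k]

omit [IsAlgClosed k] in
theorem exists_univ_proper {X : Over (Spec (CommRingCat.of k))} [IsProper X.hom] (n : ℕ) :
    ∃ (W : Over (Spec (CommRingCat.of k))) (y : Fin n → (W ⟶ X)), IsProper W.hom ∧
      ∀ (T : Over (Spec (CommRingCat.of k))) (x : Fin n → (T ⟶ X)), ∃ t : T ⟶ W, ∀ j, t ≫ y j = x j := by
  induction n with
  | zero =>
    exact ⟨𝟙_ _, Fin.elim0, inferInstanceAs (IsProper (𝟙 _)), fun T x => ⟨toUnit T, fun j => j.elim0⟩⟩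
  | succ n ih =>
    obtain ⟨W, y, hW, hy⟩ := ih
    refine ⟨X ⊗ W, Fin.cons (fst X W) (fun j => snd X W ≫ y j),
      inferInstanceAs (IsProper (Limits.pullback.fst X.hom W.hom ≫ X.hom)), fun T x => ?_⟩
    obtain ⟨t, ht⟩ := hy T (fun j => x j.succ)
    refine ⟨lift (x 0) t, Fin.cases (by simp) (fun i => by simp [ht i])⟩

/-- A pointed proper integral scheme generates an abelian variety. -/
theorem exists_proper_subgroup {G X : Over (Spec (CommRingCat.of k))} [GrpObj G] [LocallyOfFiniteType G.hom]
    [IsProper X.hom] [IsIntegral X.left] (f : X ⟶ G) (x₀ : 𝟙_ (Over (Spec (CommRingCat.of k))) ⟶ X)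
    (hx : x₀ ≫ f = η[G]) :
    ∃ (Γ : Over (Spec (CommRingCat.of k))) (_ : GrpObj Γ) (i : Γ ⟶ G), IsMonHom i ∧ IsClosedImmersion i.left ∧
      IsProper Γ.hom ∧ Smooth Γ.hom ∧ ConnectedSpace ↥Γ.left ∧ ∃ f' : X ⟶ Γ, f' ≫ i = f := by
  haveI : IsSeparated G.hom := AbRigid.isSeparated_of_grpObj G
  haveI : GeometricallyReduced X.hom := AlgClosedExt25.geometricallyReduced_of_isReduced X.hom
  obtain ⟨Γ, _, i, hi, hic, hf', hGR, hrange, -⟩ := exists_generated f
  haveI := hi; haveI := hic
  haveI : LocallyOfFiniteType Γ.hom := by rw [← Over.w i]; infer_instance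
  haveI : IsSeparated Γ.hom := by rw [← Over.w i]; infer_instance
  obtain ⟨n, Z, -, -, hZn, hZ⟩ := exists_bound_closure f fun x =>
    ⟨Set.univ, isPreconnected_univ, trivial, x₀.left (IsLocalRing.closedPoint k), trivial, by
      rw [← AbRigid.left_comp_apply, hx]⟩
  haveI : IsProper (X ⊗ X).hom := inferInstanceAs (IsProper (Limits.pullback.fst X.hom X.hom ≫ X.hom))
  obtain ⟨W, y, hW, hy⟩ := exists_univ_proper (X := X ⊗ X) (n := n)
  haveI := hW
  let d : X ⊗ X ⟶ G := (fst X X ≫ f) * (snd X X ≫ f)⁻¹
  let M : W ⟶ G := sval d y fun _ => true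
  haveI : IsProper M.left := by
    haveI : IsProper (M.left ≫ G.hom) := by rw [Over.w]; infer_instance
    exact IsProper.of_comp M.left G.hom
  have hsub : wordSet f n ⊆ Set.range M.left := by
    rintro g ⟨T, p, x, ε, rfl⟩
    obtain ⟨t, ht⟩ := hy T fun j => if ε j then lift (x j) (toUnit T ≫ x₀) else lift (toUnit T ≫ x₀) (x j)
    have h1 : (toUnit T ≫ x₀) ≫ f = 1 := by rw [Category.assoc, hx, Hom.one_def]
    have e : t ≫ M = sval f x ε := by
      rw [comp_sval]
      simp only [ht, sval, if_true]
      congr 1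
      refine congrArg List.ofFn (funext fun j => ?_)
      cases ε j <;> simp [d, MonObj.comp_mul, GrpObj.comp_inv, h1]
    exact ⟨t.left p, by rw [← AbRigid.left_comp_apply, e]⟩
  have hΓM : Set.range i.left ⊆ Set.range M.left := by
    have hMc : IsClosed (Set.range M.left) := M.left.isClosedMap.isClosed_range
    rw [hrange]
    refine closure_minimal (fun z hz => ?_) hMc
    obtain ⟨m, hm⟩ := Set.mem_iUnion.1 (genSet_subset_iUnion f hz)
    exact closure_minimal hsub hMc (hZn (hZ m hm))
  haveI : IsProper Γ.hom := by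
    let q : pullback M.left i.left ⟶ Γ.left := pullback.snd M.left i.left
    haveI : Surjective q := ⟨fun z => by
      obtain ⟨w, hw⟩ := hΓM ⟨z, rfl⟩
      obtain ⟨v, -, hv⟩ := Scheme.Pullback.exists_preimage_pullback w z hw
      exact ⟨v, hv⟩⟩
    haveI : IsProper (q ≫ Γ.hom) := by
      rw [← Over.w i]
      show IsProper (q ≫ i.left ≫ G.hom)
      rw [← pullback.condition_assoc, Over.w]
      infer_instance
    haveI : UniversallyClosed Γ.hom := UniversallyClosed.of_comp_surjective q Γ.hom
    haveI : QuasiCompact Γ.hom := inferInstance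
    exact {}
  haveI : GeometricallyReduced Γ.hom := hGR
  haveI : IsReduced Γ.left := GrpGen20.isReduced_of_geomReduced Γ.hom
  haveI : ConnectedSpace Γ.left := by
    have hc : _root_.IsConnected (Set.range i.left) := by
      rw [hrange]
      exact ⟨⟨_, subset_closure (one_mem_genSet f)⟩, (isPreconnected_genSet f x₀ hx).closure⟩
    haveI : Nonempty Γ.left := ⟨η[Γ].left (IsLocalRing.closedPoint k)⟩
    haveI : PreconnectedSpace Γ.left :=
      ⟨i.left.isClosedEmbedding.isInducing.isPreconnected_image.1 (by rw [Set.image_univ]; exact hc.2)⟩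
    exact ⟨inferInstance⟩
  exact ⟨Γ, inferInstance, i, hi, hic, inferInstance, GrpSmooth19.smooth_of_isReduced Γ, inferInstance, hf'⟩

/-- A map from a connected scheme meeting a connected open subgroup factors through it. -/
theorem exists_lift_openSubgroup {A A₀ X : Over (Spec (CommRingCat.of k))} [GrpObj A] [GrpObj A₀]
    [LocallyOfFiniteType A.hom] (e : A₀ ⟶ A) [IsMonHom e] [IsOpenImmersion e.left] [ConnectedSpace ↥X.left]
    (f : X ⟶ A) (x₀ : 𝟙_ (Over (Spec (CommRingCat.of k))) ⟶ X) (hx : x₀ ≫ f = η[A]) :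
    ∃ f₀ : X ⟶ A₀, f₀ ≫ e = f := by
  haveI : LocallyOfFiniteType A₀.hom := by rw [← Over.w e]; infer_instance
  haveI : JacobsonSpace A.left := LocallyOfFiniteType.jacobsonSpace (Y := Spec (CommRingCat.of k)) A.hom
  have hclosed : IsClosed (Set.range e.left) := by
    rw [← isOpen_compl_iff, isOpen_iff_forall_mem_open]
    intro z hz
    obtain ⟨h, hh⟩ := Chevalley25.exists_translate A e z
    haveI : IsOpenImmersion (e ≫ Chevalley25.tau h).left := by rw [Over.comp_left]; infer_instance
    refine ⟨_, fun w hw hw' => hz ?_, (e ≫ Chevalley25.tau h).left.isOpenEmbedding.isOpen_range, hh⟩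
    obtain ⟨c, ⟨⟨a, ha⟩, ⟨b, hb⟩⟩, hc⟩ := nonempty_inter_closedPoints
      (Z := Set.range (e ≫ Chevalley25.tau h).left ∩ Set.range e.left) ⟨w, hw, hw'⟩
      ((e ≫ Chevalley25.tau h).left.isOpenEmbedding.isOpen_range.inter e.left.isOpenEmbedding.isOpen_range).isLocallyClosed
    have hac : a ∈ closedPoints A₀.left := by
      have : IsClosed ({c} : Set A.left) := hc
      show IsClosed ({a} : Set A₀.left)
      convert this.preimage (e ≫ Chevalley25.tau h).left.continuous using 1
      rw [← ha]
      exact ((e ≫ Chevalley25.tau h).left.isOpenEmbedding.injective.preimage_image {a}).symm.trans (by rw [Set.image_singleton])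
    have hbc : b ∈ closedPoints A₀.left := by
      have : IsClosed ({c} : Set A.left) := hc
      show IsClosed ({b} : Set A₀.left)
      convert this.preimage e.left.continuous using 1
      rw [← hb]
      exact (e.left.isOpenEmbedding.injective.preimage_image {b}).symm.trans (by rw [Set.image_singleton])
    obtain ⟨a', ha'⟩ := exists_point_at hac
    obtain ⟨b', hb'⟩ := exists_point_at hbc
    have heq : a' ≫ e ≫ Chevalley25.tau h = b' ≫ e := eq_of_apply (by
      rw [AbRigid.left_comp_apply, ha', ha, AbRigid.left_comp_apply, hb', hb])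
    rw [← Category.assoc, Chevalley25.comp_tau] at heq
    have hth : Chevalley25.cst (T0 k) h = (b' * a'⁻¹) ≫ e := by
      rw [MonObj.mul_comp, GrpObj.inv_comp, ← heq, mul_inv_cancel_right]
    let cA : A₀ ⟶ A₀ := (Over.homMk (V := T0 k) A₀.hom (Category.comp_id _) ≫ (b' * a'⁻¹)) * 𝟙 A₀
    have hf : e ≫ Chevalley25.tau h = cA ≫ e := by
      rw [Chevalley25.comp_tau, MonObj.mul_comp, Category.id_comp, Category.assoc, ← hth, Chevalley25.comp_cst]
    obtain ⟨v, hv⟩ := hh
    rw [hf] at hv
    exact ⟨cA.left v, by rw [← hv]; rfl⟩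
  have hsub : Set.range f.left ⊆ Set.range e.left := by
    have hcl : IsClopen (f.left ⁻¹' Set.range e.left) :=
      ⟨hclosed.preimage f.left.continuous, e.left.isOpenEmbedding.isOpen_range.preimage f.left.continuous⟩
    have hne : (f.left ⁻¹' Set.range e.left).Nonempty := ⟨x₀.left (IsLocalRing.closedPoint k),
      η[A₀].left (IsLocalRing.closedPoint k), by
        rw [← AbRigid.left_comp_apply, IsMonHom.one_hom, ← AbRigid.left_comp_apply, hx]⟩
    rintro _ ⟨z, rfl⟩
    exact (hcl.eq_univ hne).ge (Set.mem_univ z)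
  have hl := IsOpenImmersion.lift_fac e.left f.left hsub
  exact ⟨Over.homMk (IsOpenImmersion.lift e.left f.left hsub) (by rw [← Over.w e, ← Category.assoc, hl, Over.w]),
    Over.OverMorphism.ext hl⟩

end Groth.Agent.Alb8
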