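import Groth.Agent.Lib.Alb8.Main
import Groth.Agent.Lib.Semiab15.Torus

/-!
# The neutral component of the Albanese scheme of a proper scheme is proper
-/

set_option autoImplicit false
set_option maxSynthPendingDepth 3
set_option backward.isDefEq.respectTransparency false
set_option maxHeartbeats 1000000

universe u

open CategoryTheory CategoryTheory.Limits MonoidalCategory CartesianMonoidalCategory MonObj AlgebraicGeometry

noncomputable section

namespace Groth.Agent.Alb8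

open OneMot8
open Semiab15 (IsSA)

variable {k : Type u} [Field k] [IsAlgClosed k]

local notation "𝐁" => Over (Spec (CommRingCat.of k))

/-- The universal property against all semiabelian neutral components. -/
def IsUniv {X A : Over (Spec (CommRingCat.of k))} [GrpObj A] (u : X ⟶ A) : Prop :=
  ∀ (G : Over (Spec (CommRingCat.of k))) [GrpObj G] [IsCommMonObj G] [IsSeparated G.hom] [LocallyOfFiniteType G.hom]
    (G0 : Over (Spec (CommRingCat.of k))) [GrpObj G0] (e : G0 ⟶ G) [IsMonHom e] [IsOpenImmersion e.left]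
    [ConnectedSpace ↥G0.left] (_ : IsSA G0) (φ : X ⟶ G), ∃! h : A ⟶ G, IsMonHom h ∧ u ≫ h = φ

theorem isProper_neutral {X A A0 : Over (Spec (CommRingCat.of k))} [IsIntegral X.left] [IsProper X.hom]
    [GrpObj A] [IsCommMonObj A] [IsSeparated A.hom] [LocallyOfFiniteType A.hom] [GrpObj A0] (e₀ : A0 ⟶ A)
    [IsMonHom e₀] [IsOpenImmersion e₀.left] [ConnectedSpace ↥A0.left] (hA0 : IsSA A0) (u : X ⟶ A)
    (huniv : IsUniv u) : IsProper A0.hom := by
  haveI : JacobsonSpace X.left := LocallyOfFiniteType.jacobsonSpace (Y := Spec (CommRingCat.of k)) X.hom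
  obtain ⟨z, -, hz⟩ := nonempty_inter_closedPoints (X := X.left) (Z := Set.univ)
    ⟨Classical.arbitrary X.left, trivial⟩ isOpen_univ.isLocallyClosed
  obtain ⟨x₀, -⟩ := exists_point_at (X := X) hz
  let c : T0 k ⟶ A := x₀ ≫ u
  letI : CommGroup (X ⟶ A) := Hom.commGroup
  let f' : X ⟶ A := u * (toUnit X ≫ c)⁻¹
  have hx' : x₀ ≫ f' = η[A] := by
    rw [MonObj.comp_mul, GrpObj.comp_inv, ← Category.assoc,
      show x₀ ≫ toUnit X = 𝟙 _ from toUnit_unique _ _]
    erw [Category.id_comp, mul_inv_cancel]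
    rw [Hom.one_def, show toUnit (T0 k) = 𝟙 _ from toUnit_unique _ _]
    exact Category.id_comp _
  haveI : LocallyOfFiniteType A0.hom := by rw [← Over.w e₀]; infer_instance
  obtain ⟨f, hf⟩ := exists_lift_openSubgroup e₀ f' x₀ hx'
  haveI : IsSeparated A0.hom := AbRigid.isSeparated_of_grpObj A0
  haveI : Mono e₀ := Over.mono_of_mono_left e₀
  haveI := AbelGrp20.isCommMonObj_of_mono e₀
  have hx : x₀ ≫ f = η[A0] := by rw [← cancel_mono e₀, Category.assoc, hf, hx', IsMonHom.one_hom]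
  obtain ⟨Γ, _, m, hm, hmc, hΓp, hΓs, hΓc, f₁, hf₁⟩ := exists_proper_subgroup f x₀ hx
  haveI := hm; haveI := hmc; haveI := hΓp; haveI := hΓs; haveI := hΓc
  haveI : Mono m := Over.mono_of_mono_left m
  haveI := Semiab15.isCommMonObj_of_isProper Γ
  -- the map to the abelian variety
  obtain ⟨g, ⟨hg, hug⟩, -⟩ := huniv Γ Γ (𝟙 Γ) (Semiab15.isSA_of_isProper Γ) f₁
  haveI := hg
  -- the degree
  let Z : Type u := ULift.{u} (Multiplicative ℤ)
  letI := constGrp (Spec (CommRingCat.of k)) Z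
  haveI := isCommMonObj_const (S := Spec (CommRingCat.of k)) (I := Z)
  haveI : LocallyOfFiniteType (TwC.const (Spec (CommRingCat.of k)) Z).hom :=
    IsZariskiLocalAtSource.sigmaDesc (P := @LocallyOfFiniteType) fun _ => inferInstance
  haveI := AbRigid.isSeparated_of_grpObj (TwC.const (Spec (CommRingCat.of k)) Z)
  haveI : IsMonHom η[TwC.const (Spec (CommRingCat.of k)) Z] := TorsorSch25.isMonHom_of_points _ fun W x y => by
    have h : ∀ w : W ⟶ 𝟙_ 𝐁, w ≫ η[TwC.const (Spec (CommRingCat.of k)) Z] = 1 := fun w => by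
      rw [Hom.one_def, toUnit_unique w (toUnit W)]
    rw [h, h, h, _root_.mul_one]
  haveI : IsOpenImmersion η[TwC.const (Spec (CommRingCat.of k)) Z].left := by
    have : η[TwC.const (Spec (CommRingCat.of k)) Z] = TwC.pt (Spec (CommRingCat.of k)) Z 1 := by
      rw [pt_one, Hom.one_def, toUnit_unique (toUnit _) (𝟙 _), Category.id_comp]
    rw [this]
    exact inferInstanceAs (IsOpenImmersion (Sigma.ι (fun _ : Z => Spec (CommRingCat.of k)) 1))
  haveI : IsProper (𝟙_ 𝐁).hom := inferInstanceAs (IsProper (𝟙 _))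
  haveI : Smooth (𝟙_ 𝐁).hom := inferInstanceAs (Smooth (𝟙 _))
  haveI : ConnectedSpace ↥(𝟙_ 𝐁).left := inferInstanceAs (ConnectedSpace ↥(Spec (CommRingCat.of k)))
  let one : Z := ⟨Multiplicative.ofAdd 1⟩
  obtain ⟨deg, ⟨hdeg, hudeg⟩, -⟩ := huniv (TwC.const (Spec (CommRingCat.of k)) Z) (𝟙_ 𝐁)
    η[TwC.const (Spec (CommRingCat.of k)) Z] (Semiab15.isSA_of_isProper (𝟙_ 𝐁))
    (toUnit X ≫ TwC.pt (Spec (CommRingCat.of k)) Z one)
  haveI := hdeg
  -- the translation
  letI : CommGroup (𝟙_ 𝐁 ⟶ A) := Hom.commGroup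
  let χ : Z →* (𝟙_ 𝐁 ⟶ A) := (zpowersHom (𝟙_ 𝐁 ⟶ A) c).comp MulEquiv.ulift.toMonoidHom
  let ψ : TwC.const (Spec (CommRingCat.of k)) Z ⟶ A := Over.homMk (Sigma.desc fun a => (χ a).left)
    (Sigma.hom_ext _ _ fun a => by rw [Sigma.ι_desc_assoc, Over.w]; exact (Sigma.ι_desc (fun _ : Z => 𝟙 _) a).symm)
  have hψ : ∀ a, TwC.pt (Spec (CommRingCat.of k)) Z a ≫ ψ = χ a := fun a => Over.OverMorphism.ext (Sigma.ι_desc _ a)
  haveI := isMonHom_of_pt ψ χ hψ
  -- uniqueness
  obtain ⟨w, -, hw⟩ := huniv A A0 e₀ hA0 u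
  haveI := TorPts21.isMonHom_mul (g ≫ m ≫ e₀) (deg ≫ ψ)
  have hc1 : χ one = c := by
    show (zpowersHom (𝟙_ 𝐁 ⟶ A) c) (Multiplicative.ofAdd 1) = c
    rw [zpowersHom_apply, toAdd_ofAdd, zpow_one]
  have key : (g ≫ m ≫ e₀) * (deg ≫ ψ) = 𝟙 A := by
    refine (hw _ ⟨inferInstance, ?_⟩).trans (hw _ ⟨inferInstance, Category.comp_id u⟩).symm
    rw [MonObj.comp_mul, reassoc_of% hug, reassoc_of% hudeg, hψ, hc1, reassoc_of% hf₁, hf]
    exact inv_mul_cancel_right u _
  have hdeg0 : e₀ ≫ deg = 1 := by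
    refine idx_injective (LocallyConstant.ext fun p => ?_)
    have hcst := (idx (e₀ ≫ deg)).isLocallyConstant.apply_eq_of_preconnectedSpace p
      (η[A0].left (IsLocalRing.closedPoint k))
    refine Eq.trans hcst ?_
    rw [idx_one]
    refine idx_eq _ ?_
    show (e₀ ≫ deg).left (η[A0].left (IsLocalRing.closedPoint k)) ∈
      Set.range (Sigma.ι (fun _ : Z => Spec (CommRingCat.of k)) (1 : Z))
    rw [← AbRigid.left_comp_apply]
    rw [IsMonHom.one_hom_assoc, IsMonHom.one_hom]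
    refine ⟨IsLocalRing.closedPoint k, ?_⟩
    rw [show η[TwC.const (Spec (CommRingCat.of k)) Z] = TwC.pt (Spec (CommRingCat.of k)) Z 1 by
      rw [pt_one, Hom.one_def, toUnit_unique (toUnit _) (𝟙 _), Category.id_comp]]
    rfl
  have hsplit : (e₀ ≫ g) ≫ m = 𝟙 A0 := by
    rw [← cancel_mono e₀, Category.id_comp, Category.assoc, Category.assoc]
    calc e₀ ≫ g ≫ m ≫ e₀ = e₀ ≫ ((g ≫ m ≫ e₀) * (deg ≫ ψ)) := by
          rw [MonObj.comp_mul, reassoc_of% hdeg0, MonObj.one_comp, _root_.mul_one]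
      _ = e₀ := by rw [key, Category.comp_id]
  haveI : IsIso m := ⟨e₀ ≫ g, (cancel_mono m).1 (by rw [Category.assoc, hsplit, Category.comp_id, Category.id_comp]),
    hsplit⟩
  haveI : IsIso m.left := (inferInstance : IsIso ((Over.forget _).map m))
  haveI : IsProper (m.left ≫ A0.hom) := by rw [Over.w]; infer_instance
  rw [← IsIso.inv_hom_id_assoc m.left A0.hom]
  infer_instance

end Groth.Agent.Alb8
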